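import Cfsg.Agent.Lib.ClassesSp.Nilpotent
import Mathlib

/-!
A normal basis exists for every admissible code.
-/

set_option autoImplicit false
set_option linter.unusedSectionVars false

namespace Cfsg.Agent.Lib.ClassesSp

open Module
open Cfsg.Agent.Lib.Symplectic (IsSympForm)

universe u

variable {F : Type u} [Field F] (α : F) (r : ℕ → ℕ) (s : ℕ → Bool) (N : ℕ)

/-- The Gram matrix of the model. -/
def modK : Matrix (Idx r N) (Idx r N) F := fun p q => (-1) ^ (p.2 : ℕ) *
  if (p.1.1 : ℕ) = q.1.1 ∧ (p.2 : ℕ) + q.2 + 1 = p.1.1 then std α (r p.1.1) p.1.1 (s p.1.1) p.1.2 q.1.2 else 0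

/-- The model form. -/
noncomputable def modB : (Idx r N → F) →ₗ[F] (Idx r N → F) →ₗ[F] F :=
  Matrix.toLinearMap₂' F (modK α r s N)

/-- The model endomorphism. -/
def modD : Module.End F (Idx r N → F) where
  toFun := shiftC
  map_add' c c' := by funext p; simp only [shiftC, Pi.add_apply]; split_ifs <;> simp
  map_smul' a c := by funext p; simp only [shiftC, Pi.smul_apply, RingHom.id_apply]; split_ifs <;> simp

theorem std_symm (k e : ℕ) (t : Bool) (a b : ℕ) (ha : a < k) (hk : Odd e → Even k) : std α k e t b a = (-1) ^ e * std α k e t a b := by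
  by_cases he : Even e
  · simp only [std, if_pos he, he.neg_one_pow, one_mul]
    by_cases h : a = b
    · subst h; rfl
    · rw [if_neg (Ne.symm h), if_neg h]
  · simp only [std, if_neg he, (Nat.not_even_iff_odd.1 he).neg_one_pow]
    by_cases h1 : a + k / 2 = b <;> by_cases h2 : b + k / 2 = a
    · obtain ⟨c, hc⟩ := hk (Nat.not_even_iff_odd.1 he)
      exact absurd h1 (by omega)
    all_goals simp [h1, h2]

theorem modB_single (p q : Idx r N) :
    modB α r s N (Pi.single p 1) (Pi.single q 1) = modK α r s N p q := by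
  simp [modB, Matrix.toLinearMap₂'_apply', Matrix.mulVec_single_one]

theorem modD_single (p : Idx r N) : modD (F := F) r N (Pi.single p 1) =
    if h : (p.2 : ℕ) + 1 < p.1.1 then Pi.single ⟨p.1, ⟨(p.2 : ℕ) + 1, h⟩⟩ 1 else 0 := by
  classical
  funext q
  show shiftC (Pi.single p (1 : F)) q = _
  obtain ⟨kp, i⟩ := p
  obtain ⟨kq, i'⟩ := q
  simp only [shiftC]
  have hi' := i'.2
  split_ifs with h1 h2 h2
  · rw [Pi.single_eq_of_ne]
    intro h
    simp only [Sigma.mk.injEq] at h
    obtain ⟨rfl, h⟩ := h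
    have := congrArg Fin.val (eq_of_heq h)
    simp only at this
    omega
  · rfl
  · rcases eq_or_ne kq kp with rfl | hne
    · by_cases hii : (i : ℕ) + 1 = i'
      · obtain rfl : i' = ⟨(i : ℕ) + 1, h2⟩ := Fin.ext hii.symm
        rw [Pi.single_eq_same, show (⟨(i : ℕ) + 1 - 1, by omega⟩ : Fin (kq.1 : ℕ)) = i from Fin.ext (by simp),
          Pi.single_eq_same]
      · rw [Pi.single_eq_of_ne, Pi.single_eq_of_ne] <;> intro h <;> simp only [Sigma.mk.injEq, heq_eq_eq, true_and] at h
        · exact hii (congrArg Fin.val h).symm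
        · have := congrArg Fin.val h; simp only at this; omega
    · rw [Pi.single_eq_of_ne, Pi.single_eq_of_ne] <;> intro h <;> exact hne (congrArg Sigma.fst h)
  · rw [Pi.zero_apply, Pi.single_eq_of_ne]
    intro h
    simp only [Sigma.mk.injEq] at h
    obtain ⟨rfl, h⟩ := h
    have := congrArg Fin.val (eq_of_heq h)
    simp only at this
    omega

variable {α r s N}

theorem modK_skew (hpar : ∀ e, Odd e → Even (r e)) (hne : ∀ e, Odd e → 0 < e) (p q : Idx r N) :
    modK α r s N q p = -modK α r s N p q := by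
  obtain ⟨⟨j, a⟩, i⟩ := p
  obtain ⟨⟨j', b⟩, i'⟩ := q
  simp only [modK]
  by_cases hc : (j : ℕ) = j' ∧ (i : ℕ) + i' + 1 = j
  · obtain ⟨h1, h2⟩ := hc
    obtain rfl := Fin.ext h1
    rw [if_pos ⟨rfl, by omega⟩, if_pos ⟨rfl, h2⟩, std_symm α _ _ _ _ _ a.2 (hpar _), ← mul_assoc, ← neg_mul]
    congr 1
    have hsq : ((-1 : F) ^ (i : ℕ)) * (-1) ^ (i : ℕ) = 1 := by rw [← pow_add]; exact Even.neg_one_pow ⟨_, rfl⟩
    have h3 : (-1 : F) ^ (j : ℕ) = (-1) ^ (i : ℕ) * (-1) ^ (i' : ℕ) * (-1) := by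
      rw [← pow_add, ← pow_succ, h2]
    rw [h3]
    have hsq' : ((-1 : F) ^ (i' : ℕ)) * (-1) ^ (i' : ℕ) = 1 := by rw [← pow_add]; exact Even.neg_one_pow ⟨_, rfl⟩
    linear_combination -((-1 : F) ^ (i : ℕ)) * hsq'
  · rw [if_neg hc, if_neg fun h => hc ⟨h.1.symm, by omega⟩, mul_zero, mul_zero, neg_zero]

theorem modB_flip (hpar : ∀ e, Odd e → Even (r e)) (hne : ∀ e, Odd e → 0 < e) (x y : Idx r N → F) :
    modB α r s N y x = -modB α r s N x y := by
  classical
  have h : (modB α r s N).flip = -(modB α r s N) := by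
    refine LinearMap.pi_ext' fun p => LinearMap.ext_ring ?_
    refine LinearMap.pi_ext' fun q => LinearMap.ext_ring ?_
    show modB α r s N (Pi.single q 1) (Pi.single p 1) = -modB α r s N (Pi.single p 1) (Pi.single q 1)
    rw [modB_single, modB_single]
    exact modK_skew hpar hne p q
  exact LinearMap.congr_fun (LinearMap.congr_fun h x) y

theorem modB_symp (h2 : (2 : F) ≠ 0) (hα : α ≠ 0) (hpar : ∀ e, Odd e → Even (r e))
    (hne : ∀ e, Odd e → 0 < e) : IsSympForm (modB α r s N) := by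
  classical
  refine ⟨fun x => ?_, fun x hx => ?_⟩
  · have h := modB_flip (α := α) (s := s) hpar hne x x
    exact (mul_eq_zero.1 (show (2 : F) * modB α r s N x x = 0 by linear_combination h)).resolve_left h2
  · funext q
    obtain ⟨⟨j, a⟩, i⟩ := q
    obtain ⟨b, hb, hb1, hb2⟩ := std_exists_partner hα (hpar j) (s j) a.2
    let p : Idx r N := ⟨⟨j, ⟨b, hb⟩⟩, ⟨(j : ℕ) - 1 - i, by have := i.2; simp only at this ⊢; omega⟩⟩
    have h : modB α r s N (Pi.single p 1) x = 0 := by
      rw [modB_flip hpar hne, hx, neg_zero]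
    rw [modB, Matrix.toLinearMap₂'_apply'] at h
    rw [single_one_dotProduct, Matrix.mulVec, dotProduct,
      Finset.sum_eq_single (⟨⟨j, a⟩, i⟩ : Idx r N) ?_ (by simp)] at h
    · simp only [modK, p] at h
      rw [if_pos ⟨trivial, by have := i.2; simp only at this ⊢; omega⟩, mul_eq_zero, mul_eq_zero] at h
      rcases h with (h | h) | h
      · exact absurd h (pow_ne_zero _ (neg_ne_zero.2 one_ne_zero))
      · exact absurd h hb1
      · exact h
    · intro q' _ hne'
      obtain ⟨⟨j', a'⟩, i'⟩ := q'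
      simp only [modK, p]
      split_ifs with hc
      · obtain ⟨hc1, hc2⟩ := hc
        obtain rfl := Fin.ext hc1
        have := i.2; have := i'.2
        simp only at *
        obtain rfl : i' = i := Fin.ext (by omega)
        rw [hb2 _ a'.2 fun h' => hne' (by rw [Fin.ext h']), mul_zero, zero_mul]
      · rw [mul_zero, zero_mul]

theorem modB_skew : Skew (modB α r s N) (modD r N) := by
  classical
  have h : (modB α r s N).comp (modD r N) = -((modB α r s N).compl₂ (modD r N)) := by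
    refine LinearMap.pi_ext' fun p => LinearMap.ext_ring ?_
    refine LinearMap.pi_ext' fun q => LinearMap.ext_ring ?_
    show modB α r s N (modD r N (Pi.single p 1)) (Pi.single q 1) =
      -modB α r s N (Pi.single p 1) (modD r N (Pi.single q 1))
    rw [modD_single, modD_single]
    obtain ⟨⟨j, a⟩, i⟩ := p
    obtain ⟨⟨j', b⟩, i'⟩ := q
    have hi := i.2; have hi' := i'.2
    simp only at hi hi'
    split_ifs with h1 h2 h2 <;>
      simp only [map_zero, LinearMap.zero_apply, modB_single, modK, neg_zero]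
    · by_cases hc : (j : ℕ) = j' ∧ (i : ℕ) + 1 + i' + 1 = j
      · rw [if_pos hc, if_pos ⟨hc.1, by omega⟩, pow_succ]; ring
      · rw [if_neg hc, if_neg fun h => hc ⟨h.1, by omega⟩]; simp
    · rw [if_neg fun h => by dsimp at h h1 h2 ⊢; omega, mul_zero]
    · rw [if_neg fun h => by dsimp at h h1 h2 ⊢; omega, mul_zero, neg_zero]
  exact fun x y => LinearMap.congr_fun (LinearMap.congr_fun h x) y

theorem modD_pow_single : ∀ (k : ℕ) (p : Idx r N), (modD (F := F) r N ^ k) (Pi.single p 1) =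
    if h : (p.2 : ℕ) + k < p.1.1 then Pi.single ⟨p.1, ⟨(p.2 : ℕ) + k, h⟩⟩ 1 else 0 := by
  intro k
  induction k with
  | zero =>
    intro p
    rw [dif_pos (by simp), pow_zero, Module.End.one_apply]
    congr
  | succ k ih =>
    intro p
    rw [pow_succ', Module.End.mul_apply, ih]
    split_ifs with h1 h2 h2
    · rw [modD_single, dif_pos (by simpa [add_assoc] using h2)]
      congr 2
    · rw [modD_single, dif_neg (by simpa [add_assoc] using h2)]
    · omega
    · exact map_zero _

theorem modD_pow_eq_zero : modD (F := F) r N ^ N = 0 := by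
  classical
  refine LinearMap.pi_ext' fun p => LinearMap.ext_ring ?_
  show (modD (F := F) r N ^ N) (Pi.single p 1) = 0
  rw [modD_pow_single, dif_neg]
  have := p.1.1.2
  omega

/-- The normal basis of the model. -/
theorem exists_modNF (hbound : ∀ e, r e ≠ 0 → 1 ≤ e ∧ e ≤ N) (hpar : ∀ e, Odd e → Even (r e))
    (hsupp : ∀ e, s e = true → Even e ∧ 0 < r e) :
    ∃ P : NF (modB α r s N) (modD r N) α N, P.r = r ∧ P.s = s := by
  classical
  let v : ℕ → ℕ → (Idx r N → F) := fun e a =>
    if h : e < N + 1 ∧ a < r e ∧ 0 < e then Pi.single ⟨⟨⟨e, h.1⟩, ⟨a, h.2.1⟩⟩, ⟨0, h.2.2⟩⟩ 1 else 0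
  have hv : ∀ e a, a < r e → ∃ (h1 : e < N + 1) (h2 : a < r e) (h3 : 0 < e),
      v e a = Pi.single ⟨⟨⟨e, h1⟩, ⟨a, h2⟩⟩, ⟨0, h3⟩⟩ 1 := by
    intro e a ha
    obtain ⟨h1, h2⟩ := hbound e (by omega)
    exact ⟨by omega, ha, h1, dif_pos ⟨by omega, ha, h1⟩⟩
  refine ⟨{
    r := r
    s := s
    v := v
    bound := hbound
    par := hpar
    supp := hsupp
    kill := fun e a ha => ?_
    gram_eq := fun e a b k ha hb => ?_
    gram_ne := fun e e' a b k hne ha hb => ?_
    span := ?_ }, rfl, rfl⟩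
  · obtain ⟨h1, h2, h3, hv⟩ := hv e a ha
    rw [hv, modD_pow_single, dif_neg]
    simp
  · obtain ⟨g1, g2, g3, ga⟩ := hv e a ha
    obtain ⟨g1', g2', g3', gb⟩ := hv e b hb
    rw [ga, gb, modD_pow_single]
    split_ifs with hk hk2 hk2
    · rw [modB_single, modK, if_pos ⟨rfl, by simp only; omega⟩]; simp
    · rw [modB_single, modK, if_neg fun h => hk2 (by simp only at h; omega), mul_zero]
    · simp only at hk; omega
    · rw [map_zero]
  · obtain ⟨g1, g2, g3, ga⟩ := hv e a ha
    obtain ⟨g1', g2', g3', gb⟩ := hv e' b hb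
    rw [ga, gb, modD_pow_single]
    split_ifs
    · rw [modB_single, modK, if_neg fun h => hne h.1, mul_zero]
    · rw [map_zero]
  · intro x _
    rw [pi_eq_sum_univ' x]
    refine Submodule.sum_mem _ fun p _ => Submodule.smul_mem _ _ (Submodule.subset_span ?_)
    obtain ⟨⟨⟨e, he⟩, ⟨a, ha⟩⟩, ⟨i, hi⟩⟩ := p
    refine ⟨e, a, i, ha, hi, ?_⟩
    obtain ⟨g1, g2, g3, ga⟩ := hv e a ha
    rw [ga, modD_pow_single, dif_pos (by simpa using hi)]
    simp

end Cfsg.Agent.Lib.ClassesSp
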