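import Cfsg.Agent.Lib.ClassesSp.Nilpotent

/-!
The signs of a normal basis are invariants: the leading form on the blocks of a given even size
has a well defined discriminant.
-/

set_option autoImplicit false
set_option linter.unusedSectionVars false

namespace Cfsg.Agent.Lib.ClassesSp

open Module

universe u v

variable {F : Type u} [Field F] {V : Type v} [AddCommGroup V] [Module F V]
variable {B : V →ₗ[F] V →ₗ[F] F} {D : Module.End F V} {α : F} {N : ℕ}

theorem shiftC_iterate {r : ℕ → ℕ} {N : ℕ} : ∀ (k : ℕ) (c : Idx r N → F) (p : Idx r N),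
    (shiftC^[k]) c p = if (p.2 : ℕ) < k then 0 else c ⟨p.1, ⟨(p.2 : ℕ) - k, by omega⟩⟩
  | 0, c, p => by simp
  | k + 1, c, p => by
    rw [Function.iterate_succ_apply, shiftC_iterate k (shiftC c) p]
    by_cases h1 : (p.2 : ℕ) < k
    · rw [if_pos h1, if_pos (by omega)]
    rw [if_neg h1]
    simp only [shiftC]
    by_cases h2 : (p.2 : ℕ) - k = 0
    · rw [if_pos h2, if_pos (by omega)]
    · rw [if_neg h2, if_neg (by omega)]
      congr 1

namespace NF

variable (P : NF B D α N)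

theorem pow_comb : ∀ (k : ℕ) (c : Idx P.r N → F), (D ^ k) (P.comb c) = P.comb ((shiftC^[k]) c)
  | 0, c => rfl
  | k + 1, c => by
    rw [pow_succ', Module.End.mul_apply, pow_comb k c, P.map_comb, Function.iterate_succ_apply']

theorem eq_zero_of_kill (hα : α ≠ 0) (hD : Skew B D) {e : ℕ} {c : Idx P.r N → F}
    (h : (D ^ e) (P.comb c) = 0) (p : Idx P.r N) (hp : (p.2 : ℕ) + e < p.1.1) : c p = 0 := by
  rw [P.pow_comb] at h
  have h0 : (shiftC^[e]) c = 0 := (P.comb_bijective hα hD).1 (h.trans (map_zero _).symm)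
  have := congrFun h0 ⟨p.1, ⟨(p.2 : ℕ) + e, hp⟩⟩
  rw [shiftC_iterate, if_neg (by simp)] at this
  simpa using this

/-- The leading form in coordinates. -/
theorem lead (hα : α ≠ 0) (hD : Skew B D) (j : Fin (N + 1)) (hj : 0 < (j : ℕ))
    {c c' : Idx P.r N → F} (hc : (D ^ (j : ℕ)) (P.comb c) = 0) (hc' : (D ^ (j : ℕ)) (P.comb c') = 0) :
    B (P.comb c) ((D ^ ((j : ℕ) - 1)) (P.comb c')) =
      ∑ a : Fin (P.r j), ∑ b : Fin (P.r j),
        c ⟨⟨j, a⟩, ⟨0, hj⟩⟩ * (c' ⟨⟨j, b⟩, ⟨0, hj⟩⟩ * std α (P.r j) j (P.s j) a b) := by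
  classical
  rw [P.pow_comb, P.form_comb hD]
  let f : Fin (P.r j) → Idx P.r N := fun a => ⟨⟨j, a⟩, ⟨0, hj⟩⟩
  let g : Fin (P.r j) → Idx P.r N := fun a => ⟨⟨j, a⟩, ⟨(j : ℕ) - 1, by simp only; omega⟩⟩
  have hf : Function.Injective f := fun a b h => by
    simp only [f, Sigma.mk.injEq] at h
    exact eq_of_heq h.1.2
  have hg : Function.Injective g := fun a b h => by
    simp only [g, Sigma.mk.injEq] at h
    exact eq_of_heq h.1.2
  have key : ∀ p q : Idx P.r N, c p * ((shiftC^[(j : ℕ) - 1]) c' q * ((-1) ^ (p.2 : ℕ) *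
      if (p.1.1 : ℕ) = q.1.1 ∧ (p.2 : ℕ) + q.2 + 1 = p.1.1 then
      std α (P.r p.1.1) p.1.1 (P.s p.1.1) p.1.2 q.1.2 else 0)) ≠ 0 →
      p ∈ Set.range f ∧ q ∈ Set.range g := by
    intro p q hne
    rw [mul_ne_zero_iff, mul_ne_zero_iff, mul_ne_zero_iff] at hne
    obtain ⟨h1, h2, -, h3⟩ := hne
    have hcond : (p.1.1 : ℕ) = q.1.1 ∧ (p.2 : ℕ) + q.2 + 1 = p.1.1 := by
      by_contra hn; exact h3 (if_neg hn)
    rw [shiftC_iterate] at h2
    have hq : ¬ (q.2 : ℕ) < (j : ℕ) - 1 := fun hlt => h2 (if_pos hlt)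
    rw [if_neg hq] at h2
    have hp' : ¬ (p.2 : ℕ) + j < p.1.1 := fun hlt => h1 (P.eq_zero_of_kill hα hD hc p hlt)
    have hq' : ¬ ((q.2 : ℕ) - ((j : ℕ) - 1)) + j < q.1.1 := fun hlt =>
      h2 (P.eq_zero_of_kill hα hD hc' ⟨q.1, ⟨_, by omega⟩⟩ hlt)
    obtain ⟨⟨jp, a⟩, i⟩ := p
    obtain ⟨⟨jq, b⟩, i'⟩ := q
    simp only at hcond hq hp' hq'
    have hi := i.2
    have hi' := i'.2
    simp only at hi hi'
    obtain rfl : jp = j := Fin.ext (by omega)
    obtain rfl : jq = jp := Fin.ext (by omega)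
    exact ⟨⟨a, by simp only [f]; congr 1; exact Fin.ext (by simp; omega)⟩,
      ⟨b, by simp only [g]; congr 1; exact Fin.ext (by simp; omega)⟩⟩
  refine (Fintype.sum_of_injective f hf _ _ ?_ fun a => ?_).symm
  · intro p hp
    refine Finset.sum_eq_zero fun q _ => by_contra fun hne => hp (key p q hne).1
  · refine Fintype.sum_of_injective g hg _ _ ?_ fun b => ?_
    · exact fun q hq => by_contra fun hne => hq (key _ q hne).2
    · simp only [f, g]
      rw [if_pos ⟨trivial, by omega⟩, shiftC_iterate, if_neg (by simp), pow_zero, one_mul]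
      congr 2
      congr 1
      exact congrArg _ (Fin.ext (by simp))

/-- The signs do not depend on the normal basis. -/
theorem s_eq [FiniteDimensional F V] (hα : ¬ IsSquare α) (hD : Skew B D) (P' : NF B D α N) :
    P.s = P'.s := by
  classical
  have hα0 : α ≠ 0 := fun h => hα (h ▸ IsSquare.zero)
  have hr := P.r_eq hα0 hD hD P'
  funext e
  by_cases hact : Even e ∧ 0 < P.r e
  swap
  · have h1 : P.s e = false := Bool.eq_false_iff.2 fun h => hact (P.supp e h)
    have h2 : P'.s e = false :=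
      Bool.eq_false_iff.2 fun h => hact (by have := P'.supp e h; rwa [← hr] at this)
    rw [h1, h2]
  obtain ⟨he, hre⟩ := hact
  obtain ⟨he1, heN⟩ := P.bound e hre.ne'
  let j : Fin (N + 1) := ⟨e, by omega⟩
  have hj : 0 < (j : ℕ) := he1
  have hcoord : ∀ a : Fin (P.r e), ∃ c : Idx P'.r N → F, P'.comb c = P.v e a :=
    fun a => (P'.comb_bijective hα0 hD).2 _
  choose c hc using hcoord
  let φ : Fin (P'.r e) ≃ Fin (P.r e) := finCongr (congrFun hr e).symm
  let M : Matrix (Fin (P.r e)) (Fin (P.r e)) F := fun a k => c a ⟨⟨j, φ.symm k⟩, ⟨0, hj⟩⟩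
  let G : Bool → Matrix (Fin (P.r e)) (Fin (P.r e)) F := fun s a b => std α (P.r e) e s a b
  have hdet : ∀ s : Bool, (G s).det = if s = true then α else 1 := by
    intro s
    have hG : G s = Matrix.diagonal fun a : Fin (P.r e) => if s = true ∧ (a : ℕ) + 1 = P.r e then α else 1 := by
      ext a b
      simp only [G, std, if_pos he, Matrix.diagonal_apply, Fin.ext_iff]
    rw [hG, Matrix.det_diagonal,
      Finset.prod_eq_single (⟨P.r e - 1, by omega⟩ : Fin (P.r e))
        (fun a _ ha => if_neg fun h => ha (Fin.ext (by simp; omega))) (by simp)]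
    exact if_congr (and_iff_left (by simp; omega)) rfl rfl
  have hmat : G (P.s e) = M * G (P'.s e) * M.transpose := by
    ext a b
    have h1 := P.gram_eq e a b (e - 1) a.2 b.2
    rw [if_pos (by omega)] at h1
    have h2 := P'.lead hα0 hD j hj (c := c a) (c' := c b)
      (by rw [hc]; exact P.kill e a a.2) (by rw [hc]; exact P.kill e b b.2)
    rw [hc, hc, h1] at h2
    rw [show G (P.s e) a b = _ from h2, Matrix.mul_apply, Finset.sum_comm]
    refine (Fintype.sum_equiv φ _ _ fun k => ?_)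
    rw [Matrix.mul_apply, Finset.sum_mul, ← φ.sum_comp]
    refine Finset.sum_congr rfl fun l _ => ?_
    rw [Matrix.transpose_apply]
    simp only [M, G]
    rw [Equiv.symm_apply_apply, Equiv.symm_apply_apply]
    simp only [φ, j, finCongr_apply, Fin.val_cast, congrFun hr e]
    ring
  have hd := congrArg Matrix.det hmat
  rw [Matrix.det_mul, Matrix.det_mul, Matrix.det_transpose, hdet, hdet] at hd
  cases hs : P.s e <;> cases hs' : P'.s e <;> simp [hs, hs'] at hd ⊢
  · refine hα ⟨M.det⁻¹, ?_⟩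
    have h0 : M.det ≠ 0 := fun h => by simp [h] at hd
    field_simp
    linear_combination -hd
  · exact hα ⟨M.det, by linear_combination hd⟩

end NF

/-- Equal invariants give an intertwining isometry. -/
theorem NF.exists_iso {V' : Type*} [AddCommGroup V'] [Module F V'] {B' : V' →ₗ[F] V' →ₗ[F] F}
    {D' : Module.End F V'} (hα : α ≠ 0) (hD : Skew B D) (hD' : Skew B' D') (P : NF B D α N)
    (P' : NF B' D' α N) (hr : P.r = P'.r) (hs : P.s = P'.s) :
    ∃ e : V ≃ₗ[F] V', (∀ x, e (D x) = D' (e x)) ∧ ∀ x y, B' (e x) (e y) = B x y := by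
  obtain ⟨r, s, v, h1, h2, h3, h4, h5, h6, h7⟩ := P
  obtain ⟨r', s', v', h1', h2', h3', h4', h5', h6', h7'⟩ := P'
  simp only at hr hs
  subst hr hs
  let P : NF B D α N := ⟨r, s, v, h1, h2, h3, h4, h5, h6, h7⟩
  let P' : NF B' D' α N := ⟨r, s, v', h1', h2', h3', h4', h5', h6', h7'⟩
  let φ := LinearEquiv.ofBijective P.comb (P.comb_bijective hα hD)
  let φ' := LinearEquiv.ofBijective P'.comb (P'.comb_bijective hα hD')
  refine ⟨φ.symm.trans φ', fun x => ?_, fun x y => ?_⟩
  · obtain ⟨c, rfl⟩ := φ.surjective x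
    show φ' (φ.symm (D (P.comb c))) = D' (φ' (φ.symm (φ c)))
    rw [LinearEquiv.symm_apply_apply, P.map_comb]
    show φ' (φ.symm (φ (shiftC c))) = D' (P'.comb c)
    rw [LinearEquiv.symm_apply_apply, P'.map_comb]
    rfl
  · obtain ⟨c, rfl⟩ := φ.surjective x
    obtain ⟨c', rfl⟩ := φ.surjective y
    simp only [LinearEquiv.trans_apply, LinearEquiv.symm_apply_apply]
    show B' (P'.comb c) (P'.comb c') = B (P.comb c) (P.comb c')
    rw [P'.form_comb hD', P.form_comb hD]

end Cfsg.Agent.Lib.ClassesSp
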