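import Cfsg.Agent.Lib.ClassesSp.Main
import Cfsg.Agent.Lib.ClassesSpUni12.Sign
import Cfsg.Agent.Lib.ClassesSpUni12.Model

/-!
The conjugacy classes of elements of order dividing `p` of a symplectic group in odd characteristic
`p` correspond to the codes of their normal bases.
-/

set_option autoImplicit false
set_option linter.unusedSectionVars false

namespace Cfsg.Agent.Lib.ClassesSp

open Module
open Cfsg.Agent.Lib.Symplectic (IsSympForm stdForm)

universe u

variable {F : Type u} [Field F] [Fintype F] {m p : ℕ}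

theorem unip_pow_iff [Fact p.Prime] [CharP F p] (x : Matrix.symplecticGroup (Fin m) F) :
    x ^ p = 1 ↔ shiftT (lin x) 1 ^ p = 0 := by
  have e : shiftT (lin x) 1 = Matrix.toLin' ((x : Matrix (Fin m ⊕ Fin m) (Fin m ⊕ Fin m) F) - 1) := by
    rw [shiftT, lin, map_sub, Matrix.toLin'_one, one_smul]; rfl
  rw [e, ← Matrix.toLin'_pow, LinearEquiv.map_eq_zero_iff, Subtype.ext_iff, SubmonoidClass.coe_pow,
    OneMemClass.coe_one]
  rcases Nat.eq_zero_or_pos m with rfl | hm
  · exact iff_of_true (Subsingleton.elim _ _) (Subsingleton.elim _ _)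
  · haveI : Nonempty (Fin m ⊕ Fin m) := ⟨Sum.inl ⟨0, hm⟩⟩
    rw [sub_pow_char_of_commute (p := p) (Commute.one_right (x : Matrix (Fin m ⊕ Fin m) (Fin m ⊕ Fin m) F)),
      one_pow, sub_eq_zero]

/-- `x` has the code `(r, s)`. -/
def UHasCode (α : F) (p : ℕ) (x : Matrix.symplecticGroup (Fin m) F) (r : ℕ → ℕ) (s : ℕ → Bool) : Prop :=
  ∃ D : Module.End F (Fin m ⊕ Fin m → F), D * shiftT (lin x) (-1) = shiftT (lin x) 1 ∧
    Skew (stdForm m F) D ∧ ∃ P : NF (stdForm m F) D α p, P.r = r ∧ P.s = s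

theorem exists_uCode [Fact p.Prime] [CharP F p] (h2 : (2 : F) ≠ 0) {α : F} (hα : ¬ IsSquare α)
    {x : Matrix.symplecticGroup (Fin m) F} (hx : x ^ p = 1) : ∃ r s, UHasCode α p x r s := by
  obtain ⟨s, D, hD, hskew, P, hP⟩ := exists_code (B := stdForm m F) (T := lin x) (ε := 1) (N := p) h2 hα
    (Symplectic.isSympForm_stdForm m F) (lin_isometry x) (one_mul 1) ((unip_pow_iff x).1 hx)
  exact ⟨P.r, P.s, D, hD, hskew, P, rfl, rfl⟩

theorem lin_mul (x y : Matrix.symplecticGroup (Fin m) F) : lin (x * y) = lin x * lin y := by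
  rw [lin, lin, lin, Submonoid.coe_mul, Matrix.toLin'_mul]; rfl

theorem lin_injective : Function.Injective (lin (F := F) (n := m)) :=
  fun _ _ h => Subtype.ext (Matrix.toLin'.injective h)

/-- The code is unique. -/
theorem uCode_unique [Fact p.Prime] [CharP F p] (h2 : (2 : F) ≠ 0) {α : F} (hα : ¬ IsSquare α)
    {x : Matrix.symplecticGroup (Fin m) F} (hx : x ^ p = 1) {r r' : ℕ → ℕ} {s s' : ℕ → Bool}
    (h : UHasCode α p x r s) (h' : UHasCode α p x r' s') : r = r' ∧ s = s' := by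
  have hα0 : α ≠ 0 := fun h => hα (h ▸ IsSquare.zero)
  obtain ⟨D, hD, hskew, P, rfl, rfl⟩ := h
  obtain ⟨D', hD', hskew', P', rfl, rfl⟩ := h'
  obtain rfl : D = D' :=
    (isUnit_shiftT_neg h2 (one_mul 1) ((unip_pow_iff x).1 hx)).mul_left_inj.1 (hD.trans hD'.symm)
  exact ⟨P.r_eq hα0 hskew hskew P', P.s_eq hα hskew P'⟩

theorem UHasCode.conj {α : F} {x z : Matrix.symplecticGroup (Fin m) F} {r : ℕ → ℕ} {s : ℕ → Bool}
    (h : UHasCode α p x r s) : UHasCode α p (z * x * z⁻¹) r s := by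
  obtain ⟨D, hD, hskew, P, hr, hs⟩ := h
  let φ : (Fin m ⊕ Fin m → F) ≃ₗ[F] (Fin m ⊕ Fin m → F) := Symplectic.spLE z
  have hφ : ∀ v, φ v = lin z v := fun v => rfl
  have hB : ∀ u v, stdForm m F (φ u) (φ v) = stdForm m F u v := fun u v => lin_isometry z u v
  let D' : Module.End F (Fin m ⊕ Fin m → F) := φ.toLinearMap ∘ₗ D ∘ₗ φ.symm.toLinearMap
  have hDφ : ∀ v, D' (φ v) = φ (D v) := fun v => by simp [D']
  have hT : ∀ v, lin (z * x * z⁻¹) (φ v) = φ (lin x v) := fun v => by
    rw [hφ, hφ, ← Module.End.mul_apply, ← lin_mul, inv_mul_cancel_right, lin_mul, Module.End.mul_apply]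
  refine ⟨D', ?_, fun u v => ?_, P.map φ hB hDφ, hr, hs⟩
  · refine LinearMap.ext fun y => ?_
    obtain ⟨v, rfl⟩ := φ.surjective y
    have hsh : ∀ c, shiftT (lin (z * x * z⁻¹)) c (φ v) = φ (shiftT (lin x) c v) := fun c => by
      rw [shiftT_apply, shiftT_apply, map_sub, map_smul, hT]
    rw [Module.End.mul_apply, hsh, hsh, hDφ, ← Module.End.mul_apply, hD]
  · obtain ⟨u, rfl⟩ := φ.surjective u
    obtain ⟨v, rfl⟩ := φ.surjective v
    rw [hDφ, hDφ, hB, hB, hskew]

/-- Equal codes give conjugate elements. -/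
theorem isConj_of_uCode [Fact p.Prime] [CharP F p] (h2 : (2 : F) ≠ 0) {α : F} (hα : α ≠ 0)
    {x y : Matrix.symplecticGroup (Fin m) F} (hx : x ^ p = 1) (hy : y ^ p = 1) {r : ℕ → ℕ} {s : ℕ → Bool}
    (h : UHasCode α p x r s) (h' : UHasCode α p y r s) : IsConj x y := by
  obtain ⟨D, hD, hskew, P, hr, hs⟩ := h
  obtain ⟨D', hD', hskew', P', hr', hs'⟩ := h'
  obtain ⟨e, he, hiso⟩ := P.exists_iso hα hskew hskew' P' (hr.trans hr'.symm) (hs.trans hs'.symm)
  have rel : ∀ {T E : Module.End F (Fin m ⊕ Fin m → F)}, E * shiftT T (-1) = shiftT T 1 →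
      ∀ v, T v - E (T v) = v + E v := fun {T E} hE v => by
    have h := LinearMap.congr_fun hE v
    rw [Module.End.mul_apply, shiftT_apply, shiftT_apply, one_smul, neg_one_smul, sub_neg_eq_add,
      map_add] at h
    calc T v - E (T v) = (E (T v) + E v + v) - E (T v) := by rw [h]; abel
      _ = v + E v := by abel
  have hfix : ∀ v, D' v = v → v = 0 := fun v hv => by
    have hk : ∀ k, (D' ^ k) v = v := fun k => by
      induction k with
      | zero => rfl
      | succ k ih => rw [pow_succ, Module.End.mul_apply, hv, ih]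
    rw [← hk p, cayley_pow h2 (one_mul 1) ((unip_pow_iff y).1 hy) hD']; rfl
  have hcomm : ∀ v, e (lin x v) = lin y (e v) := fun v => by
    refine sub_eq_zero.1 (hfix _ ?_)
    have h1 := congrArg e (rel hD v)
    rw [map_sub, he, map_add, he, ← rel hD'] at h1
    rw [map_sub, ← sub_eq_zero]
    calc _ = (lin y (e v) - D' (lin y (e v))) - (e (lin x v) - D' (e (lin x v))) := by abel
      _ = 0 := by rw [h1, sub_self]
  let z : Matrix.symplecticGroup (Fin m) F := (Symplectic.spEquiv m F).symm ⟨e, hiso⟩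
  have hz : ∀ v, lin z v = e v := fun v => by
    show Matrix.toLin' (LinearMap.toMatrix' e.toLinearMap) v = e v
    rw [Matrix.toLin'_toMatrix']; rfl
  refine isConj_iff.2 ⟨z, mul_inv_eq_of_eq_mul (lin_injective (LinearMap.ext fun v => ?_))⟩
  rw [lin_mul, lin_mul, Module.End.mul_apply, Module.End.mul_apply, hz, hz, hcomm]

/-- Every admissible code occurs. -/
theorem exists_uElement [Fact p.Prime] [CharP F p] (h2 : (2 : F) ≠ 0) {α : F} (hα : α ≠ 0)
    {r : ℕ → ℕ} {s : ℕ → Bool} (hbound : ∀ e, r e ≠ 0 → 1 ≤ e ∧ e ≤ p) (hpar : ∀ e, Odd e → Even (r e))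
    (hsupp : ∀ e, s e = true → Even e ∧ 0 < r e) (hcard : Fintype.card (Idx r p) = m + m) :
    ∃ x : Matrix.symplecticGroup (Fin m) F, x ^ p = 1 ∧ UHasCode α p x r s := by
  have hB := modB_symp (α := α) (s := s) (N := p) (r := r) h2 hα hpar fun e he => he.pos
  let E := Idx r p → F
  let D : Module.End F E := modD r p
  obtain ⟨P, hPr, hPs⟩ := exists_modNF (α := α) (N := p) hbound hpar hsupp
  have hskew : Skew (modB α r s p) D := modB_skew
  have hnil : D ^ p = 0 := modD_pow_eq_zero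
  obtain ⟨u, hu⟩ : IsUnit (1 - D) := IsNilpotent.isUnit_one_sub ⟨p, hnil⟩
  let T : Module.End F E := (1 + D) * (↑u⁻¹ : Module.End F E)
  have hc : Commute D (↑u⁻¹ : Module.End F E) :=
    Commute.units_inv_right (hu ▸ (Commute.one_right D).sub_right (Commute.refl D))
  have hTp : shiftT T (-1) = (2 : F) • (↑u⁻¹ : Module.End F E) := by
    have h1 : T - (-1 : F) • (1 : Module.End F E) = T + 1 := by
      refine LinearMap.ext fun v => ?_
      simp [sub_eq_add_neg]
      exact neg_neg v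
    rw [shiftT, h1]
    nth_rewrite 1 [← u.mul_inv]
    rw [hu, show T = (1 + D) * (↑u⁻¹ : Module.End F E) from rfl, ← add_mul, two_smul, ← two_mul]
    rw [show (1 + D) + (1 - D) = (2 : Module.End F E) by rw [add_add_sub_cancel]; exact one_add_one_eq_two]
  have hTm : shiftT T 1 = (2 : F) • (D * (↑u⁻¹ : Module.End F E)) := by
    rw [shiftT, one_smul]
    nth_rewrite 1 [← u.mul_inv]
    rw [hu, show T = (1 + D) * (↑u⁻¹ : Module.End F E) from rfl, ← sub_mul, two_smul, ← two_mul,
      show (1 + D) - (1 - D) = (2 : Module.End F E) * D by noncomm_ring, mul_assoc]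
  have hTiso : ∀ a b : E, modB α r s p (T a) (T b) = modB α r s p a b := by
    intro a b
    have key : ∀ a b : E, modB α r s p ((1 + D) a) ((1 + D) b) = modB α r s p ((1 - D) a) ((1 - D) b) := by
      intro a b
      simp only [LinearMap.add_apply, LinearMap.sub_apply, Module.End.one_apply, map_add, map_sub]
      linear_combination 2 * hskew a b
    have hui : ∀ a : E, (1 - D) ((↑u⁻¹ : Module.End F E) a) = a := fun a => by
      rw [← hu, ← Module.End.mul_apply, u.mul_inv]; rfl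
    rw [show T = (1 + D) * (↑u⁻¹ : Module.End F E) from rfl, Module.End.mul_apply, Module.End.mul_apply,
      key, hui, hui]
  obtain ⟨φ, hφ⟩ : ∃ φ : (Fin m ⊕ Fin m → F) ≃ₗ[F] E,
      ∀ a b, modB α r s p (φ a) (φ b) = stdForm m F a b := by
    obtain ⟨m', hm', φ, hφ⟩ := Symplectic.exists_std hB
    have : m' = m := by
      have h : finrank F (Idx r p → F) = m + m := (Module.finrank_fintype_fun_eq_card F).trans hcard
      omega
    subst this
    exact ⟨φ, hφ⟩
  let g : (Fin m ⊕ Fin m → F) →ₗ[F] (Fin m ⊕ Fin m → F) := φ.symm.toLinearMap ∘ₗ T ∘ₗ φ.toLinearMap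
  have hg : ∀ a b, stdForm m F (g a) (g b) = stdForm m F a b := fun a b => by
    simp only [g, LinearMap.comp_apply, LinearEquiv.coe_coe]
    rw [← hφ, φ.apply_symm_apply, φ.apply_symm_apply, hTiso, hφ]
  let x : Matrix.symplecticGroup (Fin m) F := ⟨LinearMap.toMatrix' g, Symplectic.mem_sp_iff.2 fun a b => by
    rw [LinearMap.toMatrix'_mulVec, LinearMap.toMatrix'_mulVec]; exact hg a b⟩
  have hlx : lin x = g := Matrix.toLin'_toMatrix' g
  have hsh : ∀ (c : F) (v : Fin m ⊕ Fin m → F), φ (shiftT (lin x) c v) = shiftT T c (φ v) := fun c v => by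
    rw [hlx, shiftT_apply, shiftT_apply, map_sub, map_smul]
    simp [g]
  have hshp : ∀ (k : ℕ) (v : Fin m ⊕ Fin m → F), φ ((shiftT (lin x) 1 ^ k) v) = (shiftT T 1 ^ k) (φ v) := by
    intro k
    induction k with
    | zero => intro v; rfl
    | succ k ih => intro v; rw [pow_succ, pow_succ, Module.End.mul_apply, Module.End.mul_apply, ih, hsh]
  refine ⟨x, (unip_pow_iff x).2 (LinearMap.ext fun v => φ.injective ?_), ?_⟩
  · rw [hshp, hTm, smul_pow, hc.mul_pow, hnil, zero_mul, smul_zero]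
    simp
  · let D' : Module.End F (Fin m ⊕ Fin m → F) := φ.symm.toLinearMap ∘ₗ D ∘ₗ φ.toLinearMap
    have hDφ : ∀ a, D' (φ.symm a) = φ.symm (D a) := fun a => by simp [D']
    refine ⟨D', LinearMap.ext fun v => φ.injective ?_, fun a b => ?_,
      P.map φ.symm (fun a b => by rw [← hφ, φ.apply_symm_apply, φ.apply_symm_apply]) hDφ, hPr, hPs⟩
    · rw [Module.End.mul_apply, show D' (shiftT (lin x) (-1) v) = φ.symm (D (φ (shiftT (lin x) (-1) v))) from rfl,
        φ.apply_symm_apply, hsh, hsh, hTp, hTm]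
      simp [Module.End.mul_apply]
    · simp only [D', LinearMap.comp_apply, LinearEquiv.coe_coe]
      rw [← hφ, φ.apply_symm_apply, hskew, ← hφ a, φ.apply_symm_apply]

end Cfsg.Agent.Lib.ClassesSp
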